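import Groth.Prelude.Def_W4c1imperftorsorsPerf
import Mathlib

/-! Frobenius twists of `R[X]/(uX, X²-v²)`. -/

universe u
set_option autoImplicit false
set_option linter.style.haveILetI false
set_option backward.isDefEq.respectTransparency false

open TensorProduct Polynomial
open W4c1imperftorsors hiding Twist

noncomputable section

namespace Groth.Agent.PrePerfEx

variable (p : ℕ) [Fact p.Prime] (R : Type u) [CommRing R] [CharP R p]
  (A : Type u) [CommRing A] [Algebra R A] (i : ℕ)

local notation "Tw" => W4c1imperftorsors.Twist p R A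

/-- `a ↦ 1 ⊗ a`. -/
def ι : A →+* Tw i :=
  (Algebra.TensorProduct.includeRight.toRingHom : ASrc p R A i →+* Tw i).comp
    ((aEquiv p R A i).symm : A →+* ASrc p R A i)

theorem ι_apply (a : A) : ι p R A i a = (1 : R) ⊗ₜ (aEquiv p R A i).symm a := rfl

theorem ι_algebraMap (s : R) :
    ι p R A i (algebraMap R A s) = algebraMap R (Tw i) (s ^ p ^ i) := by
  rw [ι_apply]
  have h1 : (aEquiv p R A i).symm (algebraMap R A s) =
      algebraMap (Src p R i) (ASrc p R A i) ((srcEquiv p R i).symm s) := by
    rw [algebraMap_aSrc, RingEquiv.apply_symm_apply]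
  have h2 : algebraMap (Src p R i) R ((srcEquiv p R i).symm s) = s ^ p ^ i := by
    rw [algebraMap_src, RingEquiv.apply_symm_apply]
  rw [h1, ← h2, Algebra.algebraMap_eq_smul_one, ← TensorProduct.smul_tmul,
    ← Algebra.algebraMap_eq_smul_one, Algebra.TensorProduct.algebraMap_apply,
    Algebra.algebraMap_self, RingHom.id_apply]

theorem tmul_eq (r : R) (a : ASrc p R A i) :
    r ⊗ₜ a = algebraMap R (Tw i) r * ι p R A i (aEquiv p R A i a) := by
  rw [ι_apply, RingEquiv.symm_apply_apply, Algebra.TensorProduct.algebraMap_apply,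
    Algebra.TensorProduct.tmul_mul_tmul, one_mul, mul_one, Algebra.algebraMap_self, RingHom.id_apply]

theorem exists_lift {W : Type u} [CommRing W] [Algebra R W] (g : A →+* W)
    (hg : ∀ s, g (algebraMap R A s) = algebraMap R W (s ^ p ^ i)) :
    ∃ φ : Tw i →ₐ[R] W, ∀ a, φ (ι p R A i a) = g a := by
  letI : Algebra (Src p R i) W := ((algebraMap R W).comp (algebraMap (Src p R i) R)).toAlgebra
  haveI : IsScalarTower (Src p R i) R W := IsScalarTower.of_algebraMap_eq (fun _ => rfl)
  let g' : ASrc p R A i →ₐ[Src p R i] W :=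
    { (g.comp (aEquiv p R A i : ASrc p R A i →+* A)) with
      commutes' := fun s => by
        show g (aEquiv p R A i (algebraMap (Src p R i) (ASrc p R A i) s)) = _
        rw [algebraMap_aSrc, RingEquiv.apply_symm_apply, hg]
        show _ = algebraMap R W (algebraMap (Src p R i) R s)
        rw [algebraMap_src] }
  refine ⟨Algebra.TensorProduct.lift (Algebra.ofId R W) g' (fun _ _ => Commute.all _ _), fun a => ?_⟩
  rw [ι_apply, Algebra.TensorProduct.lift_tmul, map_one, one_mul]
  show g (aEquiv p R A i ((aEquiv p R A i).symm a)) = g a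
  rw [RingEquiv.apply_symm_apply]

theorem relFrob_ι [CharP A p] (a : A) :
    W4c1imperftorsors.relFrob p R A i (ι p R A (i + 1) a) = ι p R A i (a ^ p) := by
  show relFrobAux p R A i ((1 : R) ⊗ₜ (aEquiv p R A (i + 1)).symm a) = _
  rw [relFrobAux, Algebra.TensorProduct.lift_tmul, map_one, one_mul]
  show (1 : R) ⊗ₜ[Src p R i] (aEquiv p R A i).symm (frobenius A p (aEquiv p R A (i + 1)
      ((aEquiv p R A (i + 1)).symm a))) = _
  rw [RingEquiv.apply_symm_apply, frobenius_def, ι_apply]

theorem mem_prePerf [CharP A p] (x : Π j : ℕ, Tw j) :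
    x ∈ W4c1imperftorsors.prePerf p R A ↔
      ∀ j, W4c1imperftorsors.relFrob p R A j (x (j + 1)) = x j := by
  rw [W4c1imperftorsors.prePerf, Algebra.mem_iInf]
  exact Iff.rfl

end Groth.Agent.PrePerfEx
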